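import Cfsg.Agent.H718.NB.Th5
import Cfsg.Agent.H718.NBIH
import Cfsg.Agent.H493.NB.IMdz
import Cfsg.Agent.H94.NBTh
import Cfsg.Agent.H368.NB.Sq
import Cfsg.Agent.H227.IMTh
import Cfsg.Agent.H852.IMSuz

/-!
# S5003: the row of the Thompson group (helper718; `p = 3` of helper94)
-/

set_option autoImplicit false

namespace Cfsg.Agent.H718.NB.Th

open Cfsg Cfsg.Agent Cfsg.Agent.H7.NBp Cfsg.Agent.H718.NBIH Cfsg.Agent.H493.NB

/-- **`Th`** -/
theorem nb_th {p : ℕ} [hp : Fact p.Prime] (h2 : p ≠ 2) (S : Type) [Group S] [Finite S] [IsSimpleGroup S]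
    (h : Cfsg.Spor.IsoTh S) (ih : IH p (Nat.card S)) : NB p S := by
  have hc0 : Nat.card Spor.Th = 90745943887872000 := Cfsg.Agent.S1700.result.2
  have hc : Nat.card S = 90745943887872000 := by
    obtain ⟨e⟩ := h
    rw [Nat.card_congr e.toEquiv, hc0]
  by_cases hd : p ∣ Nat.card S
  swap
  · exact NB.of_not_dvd hd
  have hm : p ∈ [2, 3, 5, 7, 13, 19, 31] :=
    H852.IMSuz.prime_cases' hp.out [2, 3, 5, 7, 13, 19, 31] (by decide) 15 (n := Nat.card S) hd (by rw [hc]; norm_num)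
  simp only [List.mem_cons, List.not_mem_nil, or_false] at hm
  have hIM := H227.IMTh.im_th h hd
  rcases hm with rfl | rfl | rfl | rfl | rfl | rfl | rfl
  · exact absurd rfl h2
  · exact Cfsg.Agent.H94.NBC.nb_th_three S h ih
  · obtain ⟨e⟩ := h
    have : Finite Spor.Th := Nat.finite_of_card_ne_zero (by rw [hc0]; norm_num)
    obtain ⟨χ, d, hχ⟩ := Th5.exists_degree
    refine NB.iso e.symm (of_deg χ (k := 3) (by norm_num) ?_ (by rw [hc0]; norm_num))
    rw [hχ]
    exact Dvd.intro (247 * d) (by ring)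
  · exact Cfsg.Agent.H368.NBSq.NB.of_IM_sq hIM (by rw [hc]; norm_num)
  · exact of_IM hIM (by rw [hc]; norm_num)
  · exact of_IM hIM (by rw [hc]; norm_num)
  · exact of_IM hIM (by rw [hc]; norm_num)

end Cfsg.Agent.H718.NB.Th
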