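import Cfsg.Agent.H718.NBAsm
import Cfsg.Agent.H7.NB.PslMain
import Cfsg.Agent.H679.NB.Psp
import Cfsg.Agent.H7.NB.PsuMain
import Cfsg.Agent.H107.NB.OrthRows
import Cfsg.Agent.H428.NBL.Final
import Cfsg.Agent.H536.NB.Suz
import Cfsg.Agent.H536.NB.He
import Cfsg.Agent.H536.NB.Ru
import Cfsg.Agent.H978.NB.Fi22
import Cfsg.Agent.H978.NB.Fi23
import Cfsg.Agent.H978.NB.Fi24
import Cfsg.Agent.H94.NBHN
import Cfsg.Agent.H872.NB.B
import Cfsg.Agent.H872.NB.M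
import Cfsg.Agent.H210.On7.Row
import Cfsg.Agent.H590.NB.J4
import Cfsg.Agent.H493.NB.RowHSMcL
import Cfsg.Agent.H119.NB.RowM
import Cfsg.Agent.H119.NB.RowJ
import Cfsg.Agent.H718.NB.Th
import Cfsg.Agent.H368.NB.Rows
import Cfsg.Agent.H368.NB.Tits
import Cfsg.Agent.H978.NB.CoTwoRow
import Cfsg.Agent.H978.NB.CoThree
import Cfsg.Agent.H116.LyFive.Row

/-!
# S5003: the rows collected (helper718)
-/

set_option autoImplicit false

namespace Cfsg.Agent.H718.NB.RowsA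

open Cfsg Cfsg.Agent Cfsg.Agent.H7.NBp Cfsg.Agent.H718.NBIH Cfsg.Agent.H718.NBAsm

theorem rows (hK : H995.CopEngine.AllKnown.{0}) {p : ℕ} [hp : Fact p.Prime] (h2 : p ≠ 2)
    (co1 : Row p fun S _ => Spor.IsoCo1 S) : Rows p where
  psl := fun S _ _ _ h _ => H7.NBPsl.nb_isPSL h2 h
  psp := fun S _ _ _ h ih => H679.NB.Psp.nb_psp h2 S h ih
  psu := fun S _ _ _ h _ => H7.NBPsu.nb_isPSU h2 h
  omo := fun S _ _ _ h ih => H107.NB.OrthRows.nb_pomegaOdd h2 S h ih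
  omp := fun S _ _ _ h ih => H107.NB.OrthRows.nb_pomegaPlus h2 S h ih
  omm := fun S _ _ _ h ih => H107.NB.OrthRows.nb_pomegaMinus h2 S h ih
  g2 := fun S _ _ _ h ih => H428.NBL.nb_g2 h2 S ih h
  f4 := fun S _ _ _ h ih => H428.NBL.nb_f4 h2 S ih h
  e6 := fun S _ _ _ h ih => H428.NBL.nb_e6 h2 S ih h
  e7 := fun S _ _ _ h ih => H428.NBL.nb_e7 h2 S ih h
  e8 := fun S _ _ _ h ih => H428.NBL.nb_e8 h2 S ih h
  te6 := fun S _ _ _ h ih => H428.NBL.nb_2e6 h2 S ih h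
  td4 := fun S _ _ _ h ih => H428.NBL.nb_3d4 h2 S ih h
  sz := fun S _ _ _ h ih => H368.NB.Rows.nb_sz h2 S h ih
  ree := fun S _ _ _ h ih => H368.NB.Rows.nb_ree h2 S h ih
  tf4 := fun S _ _ _ h ih => H368.NB.Rows.nb_tf4 h2 S h ih
  tits := fun S _ _ _ h ih => H368.NB.Tits.nb_tits h2 S h ih
  m11 := fun S _ _ _ h ih => H119.NB.nb_m11 h2 S h ih
  m12 := fun S _ _ _ h ih => H119.NB.nb_m12 h2 S h ih
  m22 := fun S _ _ _ h ih => H119.NB.nb_m22 h2 S h ih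
  m23 := fun S _ _ _ h ih => H119.NB.nb_m23 h2 S h ih
  m24 := fun S _ _ _ h ih => H119.NB.nb_m24 h2 S h ih
  j1 := fun S _ _ _ h ih => H119.NB.nb_j1 h2 S h ih
  j2 := fun S _ _ _ h ih => H119.NB.nb_j2 h2 S h ih
  j3 := fun S _ _ _ h ih => H119.NB.nb_j3 h2 S h ih
  j4 := fun S _ _ _ h ih => H590.NB.J4.nb_j4 h2 S h ih
  co1 := co1
  co2 := fun S _ _ _ h ih => H978.NB.CoTwo.nb_co2 h2 S h ih
  co3 := fun S _ _ _ h ih => H978.NB.CoThree.nb_co3 h2 S h ih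
  mcl := fun S _ _ _ h ih => H493.NB.nb_mcl h2 S h ih
  hs := fun S _ _ _ h ih => H493.NB.nb_hs h2 S h ih
  suz := fun S _ _ _ h ih => H536.NB.Suz.nb_suz h2 S h ih
  he := fun S _ _ _ h ih => H536.NB.He.nb_he h2 S h ih
  ru := fun S _ _ _ h ih => H536.NB.Ru.nb_ru h2 S h ih
  on := fun S _ _ _ h ih => H210.On7.nb_on h2 S h ih
  ly := fun S _ _ _ h ih => H116.LyFive.nb_ly hK h2 S h ih
  fi22 := fun S _ _ _ h ih => H978.NB.nb_fi22 h2 S h ih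
  fi23 := fun S _ _ _ h ih => H978.NB.nb_fi23 h2 S h ih
  fi24 := fun S _ _ _ h ih => H978.NB.nb_fi24' h2 S h ih
  hn := fun S _ _ _ h ih => H94.NBC.nb_hn h2 S h ih
  th := fun S _ _ _ h ih => H718.NB.Th.nb_th h2 S h ih
  b := fun S _ _ _ h ih => H872.NB.nb_b h2 S h ih
  m := fun S _ _ _ h ih => H872.NB.nb_m h2 S h ih

end Cfsg.Agent.H718.NB.RowsA
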